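import Groth.Prelude.Def_SGA3
import Groth.Prelude.Def_ComodSub
import Groth.Agent.S7952
import Groth.Agent.ComodLib.Coalg
import Groth.Agent.ComodLib.Antipode
import Mathlib.RingTheory.HopfAlgebra.Convolution
import Mathlib.RingTheory.Bialgebra.Hom
import Mathlib.RingTheory.Flat.Basic
import Mathlib.RingTheory.TensorProduct.Maps

/-! Hopf subalgebras of a Hopf algebra over a field, with independent universes. -/

universe u v

open TensorProduct

namespace Groth.Agent.HopfSubPoly

variable {k : Type u} [Field k] {A : Type v} [CommRing A] [HopfAlgebra k A]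

variable (k A) in
/-- A subalgebra stable under comultiplication and antipode. -/
def IsHopfSub (B : Subalgebra k A) : Prop :=
  (∀ b ∈ B, CoalgebraStruct.comul (R := k) (A := A) b ∈
      LinearMap.range (TensorProduct.map B.val.toLinearMap B.val.toLinearMap)) ∧
    ∀ b ∈ B, HopfAlgebraStruct.antipode (R := k) (A := A) b ∈ B

theorem map_val_injective {B C D E : Type*} [CommRing B] [CommRing C] [CommRing D] [CommRing E]
    [Algebra k B] [Algebra k C] [Algebra k D] [Algebra k E] (f : B →ₐ[k] C) (g : D →ₐ[k] E)
    (hf : Function.Injective f) (hg : Function.Injective g) :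
    Function.Injective (Algebra.TensorProduct.map f g) :=
  TensorProduct.map_injective_of_flat_flat f.toLinearMap g.toLinearMap hf hg

variable (B : Subalgebra k A) (h : IsHopfSub k A B)

/-- The restricted comultiplication. -/
noncomputable def comulRes : B →ₐ[k] B ⊗[k] B :=
  ((AlgEquiv.ofInjective (Algebra.TensorProduct.map B.val B.val)
    (map_val_injective _ _ Subtype.val_injective Subtype.val_injective)).symm : _ →ₐ[k] B ⊗[k] B).comp
    (((Bialgebra.comulAlgHom k A).comp B.val).codRestrict (Algebra.TensorProduct.map B.val B.val).range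
      fun b => by
        obtain ⟨z, hz⟩ := h.1 b.1 b.2
        exact ⟨z, hz⟩)

theorem map_comulRes (b : B) :
    Algebra.TensorProduct.map B.val B.val (comulRes B h b) = Bialgebra.comulAlgHom k A b.1 :=
  congrArg Subtype.val (AlgEquiv.apply_symm_apply (AlgEquiv.ofInjective (Algebra.TensorProduct.map B.val B.val)
    (map_val_injective _ _ Subtype.val_injective Subtype.val_injective)) _)

/-- The restricted antipode. -/
noncomputable def antipodeRes : B →ₐ[k] B :=
  ((HopfAlgebra.antipodeAlgHom k A).comp B.val).codRestrict B fun b => h.2 b.1 b.2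

/-- The bialgebra structure on a Hopf subalgebra. -/
noncomputable abbrev bialgebra : Bialgebra k B :=
  Bialgebra.ofAlgHom (comulRes B h) ((Bialgebra.counitAlgHom k A).comp B.val)
    (by
      refine AlgHom.ext fun b => map_val_injective B.val (Algebra.TensorProduct.map B.val B.val) Subtype.val_injective
        (map_val_injective _ _ Subtype.val_injective Subtype.val_injective) ?_
      have e1 : ∀ z : (B ⊗[k] B) ⊗[k] B, Algebra.TensorProduct.map B.val (Algebra.TensorProduct.map B.val B.val)
          (Algebra.TensorProduct.assoc k k k B B B z) = Algebra.TensorProduct.assoc k k k A A A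
          (Algebra.TensorProduct.map (Algebra.TensorProduct.map B.val B.val) B.val z) := by
        intro z
        induction z using TensorProduct.induction_on with
        | zero => simp
        | tmul x y =>
          induction x using TensorProduct.induction_on with
          | zero => simp
          | tmul x x' => simp
          | add s t hs ht => simp only [add_tmul, map_add, hs, ht]
        | add s t hs ht => simp only [map_add, hs, ht]
      have e2 : ∀ z : B ⊗[k] B, Algebra.TensorProduct.map (Algebra.TensorProduct.map B.val B.val) B.val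
          (Algebra.TensorProduct.map (comulRes B h) (AlgHom.id k B) z) =
          Algebra.TensorProduct.map (Bialgebra.comulAlgHom k A) (AlgHom.id k A) (Algebra.TensorProduct.map B.val B.val z) := by
        intro z
        induction z using TensorProduct.induction_on with
        | zero => simp
        | tmul x y => simp [map_comulRes]
        | add s t hs ht => simp only [map_add, hs, ht]
      have e3 : ∀ z : B ⊗[k] B, Algebra.TensorProduct.map B.val (Algebra.TensorProduct.map B.val B.val)
          (Algebra.TensorProduct.map (AlgHom.id k B) (comulRes B h) z) =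
          Algebra.TensorProduct.map (AlgHom.id k A) (Bialgebra.comulAlgHom k A) (Algebra.TensorProduct.map B.val B.val z) := by
        intro z
        induction z using TensorProduct.induction_on with
        | zero => simp
        | tmul x y => simp [map_comulRes]
        | add s t hs ht => simp only [map_add, hs, ht]
      simp only [AlgHom.comp_apply, AlgEquiv.coe_toAlgHom, e1, e2, e3, map_comulRes]
      exact Coalgebra.coassoc_apply b.1)
    (by
      refine AlgHom.ext fun b => map_val_injective (AlgHom.id k k) B.val Function.injective_id Subtype.val_injective ?_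
      have e2 : ∀ z : B ⊗[k] B, Algebra.TensorProduct.map (AlgHom.id k k) B.val
          (Algebra.TensorProduct.map ((Bialgebra.counitAlgHom k A).comp B.val) (AlgHom.id k B) z) =
          Algebra.TensorProduct.map (Bialgebra.counitAlgHom k A) (AlgHom.id k A) (Algebra.TensorProduct.map B.val B.val z) := by
        intro z
        induction z using TensorProduct.induction_on with
        | zero => simp
        | tmul x y => simp
        | add s t hs ht => simp only [map_add, hs, ht]
      simp only [AlgHom.comp_apply, AlgEquiv.coe_toAlgHom, e2, map_comulRes]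
      refine (Coalgebra.rTensor_counit_comul b.1).trans ?_
      simp)
    (by
      refine AlgHom.ext fun b => map_val_injective B.val (AlgHom.id k k) Subtype.val_injective Function.injective_id ?_
      have e2 : ∀ z : B ⊗[k] B, Algebra.TensorProduct.map B.val (AlgHom.id k k)
          (Algebra.TensorProduct.map (AlgHom.id k B) ((Bialgebra.counitAlgHom k A).comp B.val) z) =
          Algebra.TensorProduct.map (AlgHom.id k A) (Bialgebra.counitAlgHom k A) (Algebra.TensorProduct.map B.val B.val z) := by
        intro z
        induction z using TensorProduct.induction_on with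
        | zero => simp
        | tmul x y => simp
        | add s t hs ht => simp only [map_add, hs, ht]
      simp only [AlgHom.comp_apply, AlgEquiv.coe_toAlgHom, e2, map_comulRes]
      refine (Coalgebra.lTensor_counit_comul b.1).trans ?_
      simp)

/-- The Hopf algebra structure on a Hopf subalgebra. -/
noncomputable abbrev hopf : HopfAlgebra k B :=
  letI := bialgebra B h
  HopfAlgebra.ofAlgHom (antipodeRes B h)
    (by
      refine AlgHom.ext fun b => Subtype.val_injective ?_
      have e : ∀ z : B ⊗[k] B, ((Algebra.TensorProduct.lift (antipodeRes B h) (.id k B) fun _ => Commute.all _) z).1 =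
          LinearMap.mul' k A ((HopfAlgebraStruct.antipode (R := k) (A := A)).rTensor A (Algebra.TensorProduct.map B.val B.val z)) := by
        intro z
        induction z using TensorProduct.induction_on with
        | zero => simp
        | tmul x y => simp [antipodeRes, HopfAlgebra.antipodeAlgHom]
        | add s t hs ht => simp [map_add, hs, ht]
      refine (e _).trans ?_
      refine (congrArg (fun z => LinearMap.mul' k A ((HopfAlgebraStruct.antipode (R := k) (A := A)).rTensor A z))
        (map_comulRes B h b)).trans ?_
      exact HopfAlgebra.mul_antipode_rTensor_comul_apply b.1)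
    (by
      refine AlgHom.ext fun b => Subtype.val_injective ?_
      have e : ∀ z : B ⊗[k] B, ((Algebra.TensorProduct.lift (.id k B) (antipodeRes B h) fun _ _ => Commute.all _ _) z).1 =
          LinearMap.mul' k A ((HopfAlgebraStruct.antipode (R := k) (A := A)).lTensor A (Algebra.TensorProduct.map B.val B.val z)) := by
        intro z
        induction z using TensorProduct.induction_on with
        | zero => simp
        | tmul x y => simp [antipodeRes, HopfAlgebra.antipodeAlgHom]
        | add s t hs ht => simp [map_add, hs, ht]
      refine (e _).trans ?_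
      refine (congrArg (fun z => LinearMap.mul' k A ((HopfAlgebraStruct.antipode (R := k) (A := A)).lTensor A z))
        (map_comulRes B h b)).trans ?_
      exact HopfAlgebra.mul_antipode_lTensor_comul_apply b.1)

/-- The inclusion between Hopf subalgebras. -/
noncomputable def incl {B C : Subalgebra k A} (hB : IsHopfSub k A B) (hC : IsHopfSub k A C)
    (hle : B ≤ C) : letI := hopf B hB; letI := hopf C hC; B →ₐc[k] C :=
  letI := hopf B hB
  letI := hopf C hC
  BialgHom.ofAlgHom (Subalgebra.inclusion hle) rfl
    (AlgHom.ext fun b => map_val_injective C.val C.val Subtype.val_injective Subtype.val_injective (by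
      have e : ∀ z : B ⊗[k] B, Algebra.TensorProduct.map C.val C.val
          (Algebra.TensorProduct.map (Subalgebra.inclusion hle) (Subalgebra.inclusion hle) z) =
          Algebra.TensorProduct.map B.val B.val z := by
        intro z
        induction z using TensorProduct.induction_on with
        | zero => simp
        | tmul x y => simp
        | add s t hs ht => simp only [map_add, hs, ht]
      refine (e _).trans ?_
      exact (map_comulRes B hB b).trans (map_comulRes C hC (Subalgebra.inclusion hle b)).symm))

theorem exists_fg_hopf_containing (x : A) :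
    ∃ B : Subalgebra k A, x ∈ B ∧ B.FG ∧ IsHopfSub k A B := by
  classical
  -- a finite-dimensional subcoalgebra containing `x`
  obtain ⟨W, hW, hxW, hWfin⟩ : ∃ W : Submodule k A, HopfRep.IsSubcomod (k := k) (A := A) W ∧ x ∈ W ∧
      W.FG := by
    obtain ⟨W, hfin, hx, hW⟩ := @Groth.Agent.S7952.result k A _ _ _ _ A _ _ (HopfRep.Comod.regular k A) x
    exact ⟨W, hW, hx, Module.Finite.iff_fg.mp hfin⟩
  let cW := ComodSub.Comod.restr (HopfRep.Comod.regular k A) W hW
  have : Module.Finite k W := Module.Finite.iff_fg.mpr hWfin
  let D : Submodule k A := @Groth.Agent.ComodLib.coeffSpace k _ A _ _ _ W _ _ cW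
  have hD : Groth.Agent.ComodLib.IsSubcoalg k A D :=
    @Groth.Agent.ComodLib.isSubcoalg_coeffSpace k _ A _ _ _ W _ _ cW
  have hDfin : Module.Finite k D :=
    @Groth.Agent.ComodLib.finite_coeffSpace k _ A _ _ _ W _ _ cW _
  have hxD : x ∈ D :=
    @Groth.Agent.ComodLib.range_le_coeffSpace k _ A _ _ _ W _ _ cW W.subtype
      (ComodSub.isComodHom_subtype _ W hW) x ⟨⟨x, hxW⟩, rfl⟩
  let S : A →ₐ[k] A := HopfAlgebra.antipodeAlgHom k A
  let B : Subalgebra k A := Algebra.adjoin k ((D : Set A) ∪ S '' (D : Set A))
  have hB1 : ∀ d ∈ D, d ∈ B := fun d hd => Algebra.subset_adjoin (Or.inl hd)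
  have hB2 : ∀ d ∈ D, S d ∈ B := fun d hd => Algebra.subset_adjoin (Or.inr ⟨d, hd, rfl⟩)
  refine ⟨B, hB1 x hxD, ?_, ?_, ?_⟩
  · obtain ⟨T, hT⟩ := Module.Finite.iff_fg.mp hDfin
    refine ⟨T ∪ T.image S, le_antisymm (Algebra.adjoin_le ?_) (Algebra.adjoin_le ?_)⟩
    · rw [Finset.coe_union, Finset.coe_image]
      rintro a (ha | ⟨b, hb, rfl⟩)
      · exact hB1 a (hT ▸ Submodule.subset_span ha)
      · exact hB2 b (hT ▸ Submodule.subset_span hb)
    · set B₀ := Algebra.adjoin k ((T ∪ T.image S : Finset A) : Set A) with hB₀
      have h1 : D ≤ Subalgebra.toSubmodule B₀ := by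
        rw [← hT, Submodule.span_le]
        exact fun a ha => Algebra.subset_adjoin (Finset.mem_coe.mpr (Finset.mem_union_left _ ha))
      have h2 : D.map S.toLinearMap ≤ Subalgebra.toSubmodule B₀ := by
        rw [← hT, Submodule.map_span, Submodule.span_le]
        rintro _ ⟨a, ha, rfl⟩
        exact Algebra.subset_adjoin (Finset.mem_coe.mpr (Finset.mem_union_right _ (Finset.mem_image_of_mem _ ha)))
      rintro a (ha | ⟨b, hb, rfl⟩)
      · exact h1 ha
      · exact h2 ⟨b, hb, rfl⟩
  · intro b hb
    let R := (Algebra.TensorProduct.map B.val B.val).range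
    suffices h : B ≤ R.comap (Bialgebra.comulAlgHom k A) by
      obtain ⟨t, ht⟩ := h hb
      exact ⟨t, ht⟩
    refine Algebra.adjoin_le ?_
    have hmem : ∀ (f g : A →ₗ[k] A), (∀ d ∈ D, f d ∈ B) → (∀ d ∈ D, g d ∈ B) →
        ∀ t : D ⊗[k] D, TensorProduct.map f g (TensorProduct.map D.subtype D.subtype t) ∈ R := by
      intro f g hf hg t
      induction t using TensorProduct.induction_on with
      | zero => rw [map_zero, map_zero]; exact R.zero_mem
      | tmul p q => exact ⟨⟨f p, hf p p.2⟩ ⊗ₜ ⟨g q, hg q q.2⟩, rfl⟩
      | add p q hp hq => rw [map_add, map_add]; exact R.add_mem hp hq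
    rintro a (ha | ⟨d, hd, rfl⟩)
    · obtain ⟨t, ht⟩ := hD a ha
      show CoalgebraStruct.comul a ∈ R
      rw [← ht]
      simpa using hmem LinearMap.id LinearMap.id hB1 hB1 t
    · obtain ⟨t, ht⟩ := hD d hd
      show CoalgebraStruct.comul (HopfAlgebra.antipode k d) ∈ R
      rw [Groth.Agent.ComodLib.comul_antipode, ← ht]
      have h' := hmem (HopfAlgebra.antipode k) (HopfAlgebra.antipode k) hB2 hB2 (TensorProduct.comm k D D t)
      rw [TensorProduct.map_comm] at h'
      exact h'
  · intro b hb
    suffices h : B ≤ B.comap S from h hb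
    refine Algebra.adjoin_le ?_
    rintro a (ha | ⟨d, hd, rfl⟩)
    · exact hB2 a ha
    · show S (S d) ∈ B
      rw [show S (S d) = d from Groth.Agent.ComodLib.antipode_antipode_apply d]
      exact hB1 d hd



theorem isHopfSubalgebra_sup {B C : Subalgebra k A} (hB : IsHopfSub k A B)
    (hC : IsHopfSub k A C) : IsHopfSub k A (B ⊔ C) := by
  have hmono : ∀ {D : Subalgebra k A} (hle : D ≤ B ⊔ C),
      LinearMap.range (TensorProduct.map D.val.toLinearMap D.val.toLinearMap) ≤
        LinearMap.range (TensorProduct.map (B ⊔ C).val.toLinearMap (B ⊔ C).val.toLinearMap) := by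
    intro D hle
    rintro _ ⟨z, rfl⟩
    refine ⟨TensorProduct.map (Subalgebra.inclusion hle).toLinearMap (Subalgebra.inclusion hle).toLinearMap z, ?_⟩
    rw [← LinearMap.comp_apply, ← TensorProduct.map_comp]
    rfl
  constructor
  · have h : B ⊔ C ≤ (Algebra.TensorProduct.map (B ⊔ C).val (B ⊔ C).val).range.comap (Bialgebra.comulAlgHom k A) :=
      sup_le (fun b hb => hmono le_sup_left (hB.1 b hb)) (fun c hc => hmono le_sup_right (hC.1 c hc))
    exact fun b hb => h hb
  · have h : B ⊔ C ≤ (B ⊔ C).comap (HopfAlgebra.antipodeAlgHom k A) :=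
      sup_le (fun b hb => le_sup_left (a := B) (hB.2 b hb)) (fun c hc => le_sup_right (a := B) (hC.2 c hc))
    exact fun b hb => h hb

theorem exists_fg_hopf_of_finset (s : Finset A) :
    ∃ B : Subalgebra k A, ↑s ⊆ (B : Set A) ∧ B.FG ∧ IsHopfSub k A B := by
  classical
  induction s using Finset.induction with
  | empty =>
    obtain ⟨B, -, h2, h3⟩ := exists_fg_hopf_containing (k := k) (0 : A)
    exact ⟨B, by simp, h2, h3⟩
  | insert x s _ ih =>
    obtain ⟨B, h1, h2, h3⟩ := ih
    obtain ⟨C, g1, g2, g3⟩ := exists_fg_hopf_containing (k := k) x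
    refine ⟨B ⊔ C, ?_, h2.sup g2, isHopfSubalgebra_sup h3 g3⟩
    rw [Finset.coe_insert, Set.insert_subset_iff]
    exact ⟨le_sup_right (a := B) g1, fun y hy => le_sup_left (b := C) (h1 hy)⟩

end Groth.Agent.HopfSubPoly
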